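import Mathlib

/-!
# S2453, L5/L6: the numbers
-/

set_option autoImplicit false

namespace Cfsg.Agent.H544.War

theorem geom_lower {q d : ℕ} (hq : 2 ≤ q) (hd : 3 ≤ d) : q ^ (d - 1) + q ^ (d - 2) + 1 ≤ (q ^ d - 1) / (q - 1) := by
  obtain ⟨k, rfl⟩ : ∃ k, d = k + 3 := ⟨d - 3, by omega⟩
  obtain ⟨r, rfl⟩ : ∃ r, q = r + 1 := ⟨q - 1, by omega⟩
  rw [Nat.le_div_iff_mul_le (by omega), show k + 3 - 1 = k + 1 + 1 by omega, show k + 3 - 2 = k + 1 by omega,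
    show k + 3 = k + 1 + 1 + 1 by omega, Nat.add_sub_cancel]
  have h1 : r + 1 ≤ (r + 1) ^ (k + 1) := Nat.le_self_pow (by omega) _
  apply Nat.le_sub_of_add_le
  rw [pow_succ _ (k + 1 + 1), pow_succ _ (k + 1)]
  generalize (r + 1) ^ (k + 1) = b at h1
  nlinarith

/-- `q ^ (d / 2) + 1` is small -/
theorem lt_geom {q d a : ℕ} (hq : 2 ≤ q) (hd : 3 ≤ d) (ha : a + 1 ≤ q ^ (d - 1 - d / 2)) :
    a * (q ^ (d / 2) + 1) < (q ^ d - 1) / (q - 1) := by
  refine lt_of_lt_of_le ?_ (geom_lower hq hd)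
  have h1 : q ^ (d - 1) = q ^ (d / 2) * q ^ (d - 1 - d / 2) := by rw [← pow_add]; congr 1; omega
  have h2 : q ^ (d - 1 - d / 2) ≤ q ^ (d / 2) := Nat.pow_le_pow_right (by omega) (by omega)
  rw [h1]
  have h3 : q ^ (d / 2) * (a + 1) ≤ q ^ (d / 2) * q ^ (d - 1 - d / 2) := Nat.mul_le_mul_left _ ha
  generalize q ^ (d / 2) = x at *
  generalize q ^ (d - 1 - d / 2) = y at *
  generalize q ^ (d - 2) = z at *
  nlinarith

theorem num {m N M e q : ℕ} (hm : 4 ≤ m) (hN : N ≤ 2 * m + 2) (hq : 2 ≤ q) (hM : 2 ≤ M) (he : 2 * e ≤ M ^ 2)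
    (he1 : M ≤ 5 → e = 1) (h : M ^ (8 * M ^ 2) ≤ q ^ (N * (N - 1) / 2)) (d : ℕ) (hd : d = m ∨ d = m - 1) :
    2 * e * (q ^ (d / 2) + 1) < (q ^ d - 1) / (q - 1) := by
  have hd3 : 3 ≤ d := by omega
  by_cases hM5 : M ≤ 5
  · rw [he1 hM5, mul_one]
    refine lt_of_lt_of_le ?_ (geom_lower hq hd3)
    have h1 : 2 * q ^ (d / 2) ≤ q ^ (d - 1) := by
      calc 2 * q ^ (d / 2) ≤ q * q ^ (d / 2) := Nat.mul_le_mul_right _ hq
        _ = q ^ (d / 2 + 1) := by rw [pow_succ, mul_comm]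
        _ ≤ q ^ (d - 1) := Nat.pow_le_pow_right (by omega) (by omega)
    have h2 : 1 < q ^ (d - 2) := Nat.one_lt_pow (by omega) (by omega)
    omega
  · have hM6 : 6 ≤ M := by omega
    refine lt_of_le_of_lt (Nat.mul_le_mul_right _ he) (lt_geom hq hd3 ?_)
    by_contra hno
    push Not at hno
    obtain ⟨t, ht⟩ : ∃ t, t = m / 2 := ⟨_, rfl⟩
    have ht2 : 2 ≤ t := by omega
    -- the exponent
    have hc : t - 1 ≤ d - 1 - d / 2 := by omega
    have h1 : q ^ (t - 1) ≤ M ^ 2 := by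
      have := Nat.pow_le_pow_right (show 0 < q by omega) hc
      omega
    have hA : N * (N - 1) / 2 ≤ (2 * t + 2) * (4 * t + 3) := by
      have h3 : N ≤ 4 * t + 4 := by omega
      have h4 : N * (N - 1) ≤ (4 * t + 4) * (4 * t + 3) := Nat.mul_le_mul h3 (by omega)
      calc N * (N - 1) / 2 ≤ (4 * t + 4) * (4 * t + 3) / 2 := Nat.div_le_div_right h4
        _ = (2 * t + 2) * (4 * t + 3) := by
          rw [show (4 * t + 4) * (4 * t + 3) = 2 * ((2 * t + 2) * (4 * t + 3)) by ring, Nat.mul_div_cancel_left _ (by norm_num)]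
    obtain ⟨A, hAdef⟩ : ∃ A, A = (2 * t + 2) * (4 * t + 3) := ⟨_, rfl⟩
    rw [← hAdef] at hA
    have h2 : M ^ (8 * M ^ 2 * (t - 1)) ≤ M ^ (2 * A) := by
      calc M ^ (8 * M ^ 2 * (t - 1)) = (M ^ (8 * M ^ 2)) ^ (t - 1) := by rw [pow_mul]
        _ ≤ (q ^ A) ^ (t - 1) := Nat.pow_le_pow_left (h.trans (Nat.pow_le_pow_right (by omega) hA)) _
        _ = (q ^ (t - 1)) ^ A := by rw [← pow_mul, ← pow_mul, mul_comm]
        _ ≤ (M ^ 2) ^ A := Nat.pow_le_pow_left h1 _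
        _ = M ^ (2 * A) := by rw [← pow_mul]
    have h3 : 8 * M ^ 2 * (t - 1) ≤ 2 * A := (Nat.pow_le_pow_iff_right (by omega)).1 h2
    obtain ⟨s, rfl⟩ : ∃ s, t = s + 2 := ⟨t - 2, by omega⟩
    rw [show s + 2 - 1 = s + 1 by omega] at h1 h3
    by_cases hs : s ≤ 12
    · have h4 : 36 ≤ M ^ 2 := by nlinarith
      have h5 : 8 * 36 * (s + 1) ≤ 2 * A := le_trans (Nat.mul_le_mul_right _ (Nat.mul_le_mul_left _ h4)) h3
      rw [hAdef] at h5
      nlinarith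
    · have h4 : 2 ^ (s + 1) ≤ M ^ 2 := (Nat.pow_le_pow_left hq _).trans h1
      have h6 : ∀ k : ℕ, 2 * ((2 * (k + 13 + 2) + 2) * (4 * (k + 13 + 2) + 3)) < 8 * 2 ^ (k + 13 + 1) * (k + 13 + 1) := by
        intro k
        induction k with
        | zero => norm_num
        | succ k ih =>
          rw [show k + 1 + 13 + 1 = (k + 13 + 1) + 1 by ring, pow_succ]
          generalize 2 ^ (k + 13 + 1) = P at ih
          nlinarith
      have h5 : 8 * 2 ^ (s + 1) * (s + 1) ≤ 2 * A := le_trans (Nat.mul_le_mul_right _ (Nat.mul_le_mul_left _ h4)) h3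
      have h7 := h6 (s - 13)
      rw [show s - 13 + 13 = s by omega] at h7
      omega

end Cfsg.Agent.H544.War
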