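import Cfsg.Agent.H544.War.Gp
import Cfsg.Agent.H544.War.Num
import Cfsg.Agent.H130.War.Base
import Cfsg.Agent.S0292
import Cfsg.Agent.S0293
import Cfsg.Agent.S0294

/-!
# S2453, L5/L6: order bounds and the good polynomials from `hbig`
-/

set_option autoImplicit false

namespace Cfsg.Agent.H544.War

open Polynomial Cfsg Cfsg.Agent.H295.War Cfsg.Agent.H130.War

theorem prod_le (s k : ℕ) : ∏ i ∈ Finset.range k, (s ^ (2 * (i + 1)) - 1) ≤ s ^ (k * (k + 1)) := by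
  induction k with
  | zero => simp
  | succ k ih =>
    rw [Finset.prod_range_succ, show (k + 1) * (k + 1 + 1) = k * (k + 1) + 2 * (k + 1) by ring, pow_add]
    exact Nat.mul_le_mul ih (Nat.sub_le _ _)

theorem prod_le' (s k : ℕ) (hk : 1 ≤ k) :
    ∏ i ∈ Finset.range k, (s ^ (2 * (i + 1)) - 1) ≤ (s ^ 2 - 1) * s ^ (k * (k + 1) - 2) := by
  induction k, hk using Nat.le_induction with
  | base => simp
  | succ k hk ih =>
    have h1 : 2 ≤ k * (k + 1) := by nlinarith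
    rw [Finset.prod_range_succ, show (k + 1) * (k + 1 + 1) - 2 = (k * (k + 1) - 2) + 2 * (k + 1) by
      have : (k + 1) * (k + 1 + 1) = k * (k + 1) + 2 * (k + 1) := by ring
      omega, pow_add, ← mul_assoc]
    exact Nat.mul_le_mul ih (Nat.sub_le _ _)

section card
variable {F : Type*} [Field F] [Fintype F] {m : ℕ}

theorem card_odd_le (ho : Odd (Fintype.card F)) (hm : 3 ≤ m) :
    Nat.card (POmega F (quadFormOdd m F)) ≤ Nat.card F ^ ((2 * m + 1) * (2 * m + 1 - 1) / 2) := by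
  have h := S0292.result (F := F) rfl ho m hm
  rw [Nat.card_eq_fintype_card (α := F)]
  set s := Fintype.card F
  calc Nat.card (POmega F (quadFormOdd m F)) ≤ 2 * Nat.card (POmega F (quadFormOdd m F)) := by omega
    _ = _ := h
    _ ≤ s ^ (m ^ 2) * s ^ (m * (m + 1)) := Nat.mul_le_mul_left _ (prod_le s m)
    _ = s ^ ((2 * m + 1) * (2 * m + 1 - 1) / 2) := by
      rw [← pow_add, Nat.add_sub_cancel, show (2 * m + 1) * (2 * m) = 2 * ((2 * m + 1) * m) by ring,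
        Nat.mul_div_cancel_left _ (by norm_num)]
      congr 1
      ring

theorem card_plus_le (hm : 4 ≤ m) :
    Nat.card (POmega F (quadFormPlus m F)) ≤ Nat.card F ^ (2 * m * (2 * m - 1) / 2) := by
  have h := S0293.result (F := F) rfl m hm
  rw [Nat.card_eq_fintype_card (α := F)]
  set s := Fintype.card F
  have hg : 0 < Nat.gcd 4 (s ^ m - 1) := Nat.gcd_pos_of_pos_left _ (by norm_num)
  calc Nat.card (POmega F (quadFormPlus m F)) ≤ Nat.gcd 4 (s ^ m - 1) * Nat.card (POmega F (quadFormPlus m F)) :=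
        Nat.le_mul_of_pos_left _ hg
    _ = s ^ (m * (m - 1)) * (s ^ m - 1) * ∏ i ∈ Finset.range (m - 1), (s ^ (2 * (i + 1)) - 1) := h
    _ ≤ s ^ (m * (m - 1)) * s ^ m * s ^ ((m - 1) * (m - 1 + 1)) :=
        Nat.mul_le_mul (Nat.mul_le_mul_left _ (Nat.sub_le _ _)) (prod_le s (m - 1))
    _ = s ^ (2 * m * (2 * m - 1) / 2) := by
        rw [← pow_add, ← pow_add, mul_assoc, Nat.mul_div_cancel_left _ (by norm_num)]
        congr 1
        obtain ⟨k, rfl⟩ : ∃ k, m = k + 1 := ⟨m - 1, by omega⟩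
        rw [show 2 * (k + 1) - 1 = 2 * k + 1 by omega, Nat.add_sub_cancel]
        ring

theorem card_minus_le (hm : 3 ≤ m) {a b : F} (hab : ∀ z₁ z₂ : F, z₁ ^ 2 + a * z₁ * z₂ + b * z₂ ^ 2 = 0 → z₁ = 0 ∧ z₂ = 0) :
    Nat.card (POmega F (quadFormMinus m F a b)) ≤ Nat.card F ^ ((2 * m + 2) * (2 * m + 2 - 1) / 2) := by
  have h := S0294.result (F := F) rfl (m + 1) (by omega) a b hab
  rw [Nat.add_sub_cancel] at h
  rw [Nat.card_eq_fintype_card (α := F)]
  have hs : 2 ≤ Fintype.card F := Fintype.one_lt_card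
  set s := Fintype.card F
  have hg : 0 < Nat.gcd 4 (s ^ (m + 1) + 1) := Nat.gcd_pos_of_pos_left _ (by norm_num)
  calc Nat.card (POmega F (quadFormMinus m F a b)) ≤
        Nat.gcd 4 (s ^ (m + 1) + 1) * Nat.card (POmega F (quadFormMinus m F a b)) := Nat.le_mul_of_pos_left _ hg
    _ = s ^ ((m + 1) * m) * (s ^ (m + 1) + 1) * ∏ i ∈ Finset.range m, (s ^ (2 * (i + 1)) - 1) := h
    _ ≤ s ^ ((m + 1) * m) * (s ^ (m + 1) + 1) * ((s ^ 2 - 1) * s ^ (m * (m + 1) - 2)) :=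
        Nat.mul_le_mul_left _ (prod_le' s m (by omega))
    _ = s ^ ((m + 1) * m) * ((s ^ (m + 1) + 1) * (s ^ 2 - 1)) * s ^ (m * (m + 1) - 2) := by ring
    _ ≤ s ^ ((m + 1) * m) * (s ^ (m + 3)) * s ^ (m * (m + 1) - 2) := by
        refine Nat.mul_le_mul_right _ (Nat.mul_le_mul_left _ ?_)
        have h1 : s ^ 2 ≤ s ^ (m + 1) := Nat.pow_le_pow_right (by omega) (by omega)
        have h2 : s ^ (m + 3) = s ^ (m + 1) * s ^ 2 := by rw [← pow_add]
        rw [h2]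
        have h3 : 1 ≤ s ^ 2 := Nat.one_le_pow _ _ (by omega)
        obtain ⟨c, hc⟩ : ∃ c, s ^ 2 = c + 1 := ⟨s ^ 2 - 1, by omega⟩
        rw [hc] at h1 ⊢
        rw [Nat.add_sub_cancel]
        nlinarith
    _ = s ^ ((2 * m + 2) * (2 * m + 2 - 1) / 2) := by
        rw [← pow_add, ← pow_add, show (2 * m + 2) * (2 * m + 2 - 1) = 2 * ((m + 1) * (2 * m + 1)) by
          rw [show 2 * m + 2 - 1 = 2 * m + 1 by omega]; ring, Nat.mul_div_cancel_left _ (by norm_num)]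
        congr 1
        have h1 : 2 ≤ m * (m + 1) := by nlinarith
        have h2 : m * (m + 1) - 2 + 2 = m * (m + 1) := Nat.sub_add_cancel h1
        have h3 : (m + 1) * (2 * m + 1) = (m + 1) * m + (m + 1) + m * (m + 1) := by ring
        omega

end card

/-- `num` also for `m = 3`, `d = 3` -/
theorem num' {m N M e q : ℕ} (hm : 3 ≤ m) (hN : N ≤ 2 * m + 2) (hq : 2 ≤ q) (hM : 2 ≤ M) (he : 2 * e ≤ M ^ 2)
    (he1 : M ≤ 5 → e = 1) (h : M ^ (8 * M ^ 2) ≤ q ^ (N * (N - 1) / 2)) (d : ℕ)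
    (hd : d = m ∨ (4 ≤ m ∧ d = m - 1)) :
    2 * e * (q ^ (d / 2) + 1) < (q ^ d - 1) / (q - 1) := by
  by_cases hm4 : 4 ≤ m
  · exact num hm4 hN hq hM he he1 h d (by omega)
  · have hm3 : m = 3 := by omega
    have hd3 : d = 3 := by omega
    subst hm3 hd3
    by_cases hM5 : M ≤ 5
    · rw [he1 hM5, mul_one]
      refine lt_of_lt_of_le ?_ (geom_lower hq le_rfl)
      norm_num
      nlinarith
    · refine lt_of_le_of_lt (Nat.mul_le_mul_right _ he) (lt_geom hq le_rfl ?_)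
      by_contra hno
      norm_num at hno
      have h1 : q ≤ M ^ 2 := by omega
      have hA : N * (N - 1) / 2 ≤ 28 := by
        have h4 : N * (N - 1) ≤ 8 * 7 := Nat.mul_le_mul (by omega) (by omega)
        omega
      have h2 : M ^ (8 * M ^ 2) ≤ M ^ (2 * 28) := by
        calc M ^ (8 * M ^ 2) ≤ q ^ 28 := h.trans (Nat.pow_le_pow_right (by omega) hA)
          _ ≤ (M ^ 2) ^ 28 := Nat.pow_le_pow_left h1 _
          _ = M ^ (2 * 28) := by rw [← pow_mul]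
      have h3 : 8 * M ^ 2 ≤ 2 * 28 := (Nat.pow_le_pow_iff_right (by omega)).1 h2
      nlinarith

section final
variable {F : Type*} [Field F] [Fintype F] {p : ℕ} [hp : Fact p.Prime] [CharP F p] {m k l d : ℕ}

/-- the common form: `N` = dimension, `m` = Witt index -/
theorem exists_gp_of_big {N c : ℕ} (hm : 3 ≤ m) (hN : N ≤ 2 * m + 2) (hk : 2 ≤ k) (hl : 2 ≤ l) (hg : ¬ k.Coprime l)
    (hpd : p ∣ k ∨ p ∣ l) (hc : c ≤ Nat.card F ^ (N * (N - 1) / 2)) (hbig : (max k l) ^ (8 * (max k l) ^ 2) ≤ c)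
    (hd : d = m ∨ (4 ≤ m ∧ d = m - 1)) : ∃ f : F[X], GP p (ee p k l) d f := by
  have hq : 2 ≤ Nat.card F := Finite.one_lt_card
  have hee : 1 ≤ ee p k l := Nat.ordCompl_pos p (Nat.lcm_ne_zero (by omega) (by omega))
  exact exists_gp (by omega) hee (num' hm hN hq (le_max_of_le_left hk) (ee_le (by omega) hg)
    (fun h5 => ee_eq_one hp.out hk hl hg h5 hpd) (hbig.trans hc) d hd)

theorem gp_odd (ho : Odd (Fintype.card F)) (hm : 3 ≤ m) (hk : 2 ≤ k) (hl : 2 ≤ l) (hg : ¬ k.Coprime l)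
    (hpd : p ∣ k ∨ p ∣ l) (hbig : (max k l) ^ (8 * (max k l) ^ 2) ≤ Nat.card (POmega F (quadFormOdd m F)))
    (hd : d = m ∨ (4 ≤ m ∧ d = m - 1)) : ∃ f : F[X], GP p (ee p k l) d f :=
  exists_gp_of_big hm (by omega) hk hl hg hpd (card_odd_le ho hm) hbig hd

theorem gp_plus (hm : 4 ≤ m) (hk : 2 ≤ k) (hl : 2 ≤ l) (hg : ¬ k.Coprime l)
    (hpd : p ∣ k ∨ p ∣ l) (hbig : (max k l) ^ (8 * (max k l) ^ 2) ≤ Nat.card (POmega F (quadFormPlus m F)))
    (hd : d = m ∨ d = m - 1) : ∃ f : F[X], GP p (ee p k l) d f :=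
  exists_gp_of_big (m := m) (N := 2 * m) (by omega) (by omega) hk hl hg hpd (card_plus_le hm) hbig (by omega)

theorem gp_minus (hm : 3 ≤ m) {a b : F} (hab : ∀ z₁ z₂ : F, z₁ ^ 2 + a * z₁ * z₂ + b * z₂ ^ 2 = 0 → z₁ = 0 ∧ z₂ = 0)
    (hk : 2 ≤ k) (hl : 2 ≤ l) (hg : ¬ k.Coprime l)
    (hpd : p ∣ k ∨ p ∣ l) (hbig : (max k l) ^ (8 * (max k l) ^ 2) ≤ Nat.card (POmega F (quadFormMinus m F a b)))
    (hd : d = m ∨ (4 ≤ m ∧ d = m - 1)) : ∃ f : F[X], GP p (ee p k l) d f :=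
  exists_gp_of_big hm (by omega) hk hl hg hpd (card_minus_le hm hab) hbig hd

end final

end Cfsg.Agent.H544.War
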